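/-
helper36: S2318-[A-NLPOS] (helper82's StUniq project; hedge of helper23's claim):
if `⟨Ind_P Λ, Ind_U ψ⟩ = 0` for a character `Λ` of `P` and a linear character `ψ` of `U`, then every term of the
Mackey sum vanishes.
-/
import Mathlib
import Cfsg.Agent.Lib.Helper82.StUniq.Defs
import Cfsg.Agent.Lib.Helper23.SLDZMack
import Cfsg.Agent.Lib.Helper78.CharMore
import Cfsg.Agent.Lib.Helper75.Clifford

set_option autoImplicit false
namespace Cfsg.Agent.Lib.Helper36.StUniq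
open Cfsg
open scoped ComplexConjugate
open Cfsg.Agent.Lib.Helper79.BrauerN (linFun)
open Cfsg.Agent.Lib.Helper78
universe u
variable {G : Type u} [Group G]

/-- the subgroup `P ∩ z U z⁻¹`, inside `P` -/
def conjInf (P U : Subgroup G) (z : G) : Subgroup ↥P where
  carrier := {p | z⁻¹ * (p : G) * z ∈ U}
  mul_mem' := by
    intro a b ha hb
    have : z⁻¹ * ((a * b : ↥P) : G) * z = (z⁻¹ * (a : G) * z) * (z⁻¹ * (b : G) * z) := by
      rw [Subgroup.coe_mul]; group
    show z⁻¹ * ((a * b : ↥P) : G) * z ∈ U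
    rw [this]
    exact U.mul_mem ha hb
  one_mem' := by
    show z⁻¹ * ((1 : ↥P) : G) * z ∈ U
    simp
  inv_mem' := by
    intro a ha
    have : z⁻¹ * ((a⁻¹ : ↥P) : G) * z = (z⁻¹ * (a : G) * z)⁻¹ := by
      rw [Subgroup.coe_inv]; group
    show z⁻¹ * ((a⁻¹ : ↥P) : G) * z ∈ U
    rw [this]
    exact U.inv_mem ha

/-- the linear character `y ↦ ψ (z⁻¹ y z)` of `P ∩ z U z⁻¹` -/
def conjChar (P U : Subgroup G) (ψ : ↥U →* ℂˣ) (z : G) : ↥(conjInf P U z) →* ℂˣ where
  toFun y := ψ ⟨z⁻¹ * ((y : ↥P) : G) * z, y.2⟩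
  map_one' := by
    have : (⟨z⁻¹ * (((1 : ↥(conjInf P U z)) : ↥P) : G) * z, (1 : ↥(conjInf P U z)).2⟩ : ↥U) = 1 := by
      apply Subtype.ext
      simp
    rw [this, map_one]
  map_mul' := by
    intro a b
    have : (⟨z⁻¹ * (((a * b : ↥(conjInf P U z)) : ↥P) : G) * z, (a * b).2⟩ : ↥U)
        = ⟨z⁻¹ * ((a : ↥P) : G) * z, a.2⟩ * ⟨z⁻¹ * ((b : ↥P) : G) * z, b.2⟩ := by
      apply Subtype.ext
      simp only [Subgroup.coe_mul]
      group
    rw [this, map_mul]

/-- each term of the Mackey sum is a natural number -/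
theorem exists_nat_zterm [Fintype G] (P U : Subgroup G) (Λ : ↥P → ℂ)
    (hΛ : IsCharacter ↥P Λ) (ψ : ↥U →* ℂˣ) (z : G) :
    ∃ k : ℕ, ∑ h : G, extendByZero P Λ h * conj (extendByZero U (linFun ψ) (z⁻¹ * h * z)) = k := by
  classical
  set Y := conjInf P U z with hY
  have hres : IsCharacter ↥Y (fun y : ↥Y => Λ (y : ↥P)) :=
    Cfsg.Agent.Lib.Helper75.isCharacter_res Y hΛ
  obtain ⟨k, hk⟩ := IsCharacter.exists_nat_classInner hres
    ⟨linFun (conjChar P U ψ z), Cfsg.Agent.Lib.Helper79.BrauerN.isIrrCharacter_linFun _⟩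
  refine ⟨Nat.card ↥Y * k, ?_⟩
  have hYne : (Nat.card ↥Y : ℂ) ≠ 0 := by
    have : Nat.card ↥Y ≠ 0 := Nat.card_pos.ne'
    exact_mod_cast this
  unfold classInner at hk
  have hk' : ∑ y : ↥Y, Λ (y : ↥P) * conj (linFun (conjChar P U ψ z) y) = (Nat.card ↥Y : ℂ) * k := by
    rw [← hk, ← mul_assoc, mul_inv_cancel₀ hYne, one_mul]
  rw [Nat.cast_mul, ← hk']
  -- reindex the sum over `G` as a sum over `Y`
  let ι : ↥Y ↪ G := ⟨fun y => ((y : ↥P) : G), fun a b hab => Subtype.ext (Subtype.ext hab)⟩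
  have hsub : ∑ h : G, extendByZero P Λ h * conj (extendByZero U (linFun ψ) (z⁻¹ * h * z))
      = ∑ h ∈ Finset.univ.map ι,
          extendByZero P Λ h * conj (extendByZero U (linFun ψ) (z⁻¹ * h * z)) := by
    symm
    apply Finset.sum_subset (Finset.subset_univ _)
    intro h _ hnot
    by_cases hP : h ∈ P
    · by_cases hU : z⁻¹ * h * z ∈ U
      · exfalso
        apply hnot
        rw [Finset.mem_map]
        exact ⟨⟨⟨h, hP⟩, hU⟩, Finset.mem_univ _, rfl⟩
      · rw [extendByZero_apply_not_mem U _ hU, map_zero, mul_zero]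
    · rw [extendByZero_apply_not_mem P _ hP, zero_mul]
  rw [hsub, Finset.sum_map]
  apply Finset.sum_congr rfl
  intro y _
  show extendByZero P Λ ((y : ↥P) : G) * conj (extendByZero U (linFun ψ) (z⁻¹ * ((y : ↥P) : G) * z)) = _
  rw [extendByZero_apply_of_mem P Λ (y : ↥P).2, extendByZero_apply_of_mem U _ y.2]
  rfl

-- [A-NLPOS]
theorem sum_eq_zero_of_classInner_indFun_eq_zero [Fintype G] (P U : Subgroup G) (Λ : ↥P → ℂ)
    (hΛ : IsCharacter ↥P Λ) (ψ : ↥U →* ℂˣ)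
    (h0 : classInner (indFun P Λ) (indFun U (linFun ψ)) = 0) (m : G) :
    ∑ y : G, extendByZero P Λ y * conj (extendByZero U (linFun ψ) (m * y * m⁻¹)) = 0 := by
  classical
  choose k hk using exists_nat_zterm P U Λ hΛ ψ
  rw [Cfsg.Agent.Lib.Helper23.SLDZMack.classInner_indFun_indFun'] at h0
  have hPne : (Nat.card ↥P : ℂ) ≠ 0 := by
    have : Nat.card ↥P ≠ 0 := Nat.card_pos.ne'
    exact_mod_cast this
  have hUne : (Nat.card ↥U : ℂ) ≠ 0 := by
    have : Nat.card ↥U ≠ 0 := Nat.card_pos.ne'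
    exact_mod_cast this
  have h1 : ∑ z : G, ∑ h : G, extendByZero P Λ h * conj (extendByZero U (linFun ψ) (z⁻¹ * h * z)) = 0 := by
    rcases mul_eq_zero.mp h0 with h | h
    · exfalso
      rcases mul_eq_zero.mp h with h' | h'
      · exact inv_ne_zero hPne h'
      · exact inv_ne_zero hUne h'
    · exact h
  have h2 : ((∑ z : G, k z : ℕ) : ℂ) = 0 := by
    rw [← h1]
    push_cast
    apply Finset.sum_congr rfl
    intro z _
    exact (hk z).symm
  have h3 : ∑ z : G, k z = 0 := by exact_mod_cast h2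
  have h4 : k m⁻¹ = 0 := Finset.sum_eq_zero_iff.mp h3 m⁻¹ (Finset.mem_univ _)
  have h5 := hk m⁻¹
  rw [h4, inv_inv] at h5
  simpa using h5

end Cfsg.Agent.Lib.Helper36.StUniq
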