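/-
helper36: S2318-[A-ORTH] (helper82's StUniq project), the part that does not need [A-NLPOS]:
if `χ` is a common irreducible constituent of `Ind Λ` and `Γ`, and `⟨Ind (Λ + Λ₂), Γ⟩ ≤ 1`, then `⟨Ind Λ₂, Γ⟩ = 0`.
-/
import Mathlib
import Cfsg.Agent.Lib.Helper82.StUniq.Defs
import Cfsg.Agent.Lib.Helper78.CharMore
import Cfsg.Agent.Lib.Helper75.Clifford
import Cfsg.Agent.S0148

set_option autoImplicit false
namespace Cfsg.Agent.Lib.Helper36.StUniq
open Cfsg
open scoped ComplexConjugate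
open Cfsg.Agent.Lib.Helper79.BrauerN (linFun)
open Cfsg.Agent.Lib.Helper78
universe u
variable {G : Type u} [Group G]

/-- the inner product of two characters is a natural number, at least the product of the multiplicities of a
common irreducible constituent -/
theorem exists_nat_classInner_ge [Fintype G] {Φ Ψ : G → ℂ} (hΦ : IsCharacter G Φ) (hΨ : IsCharacter G Ψ)
    (χ : IrrCharacter G) (a b : ℕ) (ha : classInner Φ (χ : G → ℂ) = a)
    (hb : classInner Ψ (χ : G → ℂ) = b) : ∃ k : ℕ, classInner Φ Ψ = k ∧ a * b ≤ k := by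
  classical
  choose A hA using fun φ => IsCharacter.exists_nat_classInner hΦ φ
  choose B hB using fun φ => IsCharacter.exists_nat_classInner hΨ φ
  have h1 := classInner_eq_sum_mul_conj Ψ (IsCharacter.isClassFunction hΦ)
  refine ⟨∑ φ : IrrCharacter G, A φ * B φ, ?_, ?_⟩
  · rw [h1]
    push_cast
    apply Finset.sum_congr rfl
    intro φ _
    rw [hA, hB, Complex.conj_natCast]
  · have hAχ : A χ = a := by
      have := hA χ
      rw [ha] at this
      exact_mod_cast this.symm
    have hBχ : B χ = b := by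
      have := hB χ
      rw [hb] at this
      exact_mod_cast this.symm
    rw [← hAχ, ← hBχ]
    exact Finset.single_le_sum (f := fun φ => A φ * B φ) (fun _ _ => Nat.zero_le _)
      (Finset.mem_univ χ)

theorem classInner_indFun_eq_zero_of_le_one [Fintype G] (P U : Subgroup G) (Λ Λ₂ : ↥P → ℂ)
    (hΛ : IsCharacter ↥P Λ)
    (hΛ₂ : IsCharacter ↥P Λ₂) (χ : G → ℂ) (hχ : IsIrrCharacter G χ)
    (h1 : classInner χ (indFun P Λ) = 1)
    (ψ : ↥U →* ℂˣ) (h2 : classInner χ (indFun U (linFun ψ)) = 1)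
    (k : ℕ) (hk : k ≤ 1)
    (hle : classInner (indFun P (Λ + Λ₂)) (indFun U (linFun ψ)) = (k : ℂ)) :
    classInner (indFun P Λ₂) (indFun U (linFun ψ)) = 0 := by
  classical
  have hΦ₁ : IsCharacter G (indFun P Λ) := Cfsg.Agent.S0148.result P Λ hΛ
  have hΦ₂ : IsCharacter G (indFun P Λ₂) := Cfsg.Agent.S0148.result P Λ₂ hΛ₂
  have hΓ : IsCharacter G (indFun U (linFun ψ)) :=
    Cfsg.Agent.S0148.result U (linFun ψ) (Cfsg.Agent.Lib.Helper79.BrauerN.isCharacter_linFun ψ)
  have h1' : classInner (indFun P Λ) χ = ((1 : ℕ) : ℂ) := by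
    rw [← classInner_conj_symm, h1]
    simp
  have h2' : classInner (indFun U (linFun ψ)) χ = ((1 : ℕ) : ℂ) := by
    rw [← classInner_conj_symm, h2]
    simp
  obtain ⟨a, ha, ha1⟩ := exists_nat_classInner_ge hΦ₁ hΓ ⟨χ, hχ⟩ 1 1 h1' h2'
  obtain ⟨c0, hc0⟩ := IsCharacter.exists_nat_classInner hΦ₂ ⟨χ, hχ⟩
  obtain ⟨b, hb, -⟩ := exists_nat_classInner_ge hΦ₂ hΓ ⟨χ, hχ⟩ c0 1 hc0 h2'
  have hsum : indFun P (Λ + Λ₂) = indFun P Λ + indFun P Λ₂ := by
    funext g
    unfold indFun
    rw [Pi.add_apply, ← mul_add, ← Finset.sum_add_distrib]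
    congr 1
    apply Finset.sum_congr rfl
    intro x _
    unfold extendByZero
    by_cases hx : x⁻¹ * g * x ∈ P
    · have : x⁻¹ * g * x = ((⟨x⁻¹ * g * x, hx⟩ : ↥P) : G) := rfl
      rw [this, Subtype.val_injective.extend_apply, Subtype.val_injective.extend_apply,
        Subtype.val_injective.extend_apply, Pi.add_apply]
    · rw [Function.extend_apply', Function.extend_apply', Function.extend_apply']
      · simp
      · rintro ⟨y, hy⟩; exact hx (hy ▸ y.2)
      · rintro ⟨y, hy⟩; exact hx (hy ▸ y.2)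
      · rintro ⟨y, hy⟩; exact hx (hy ▸ y.2)
  rw [hsum, classInner_add_left, ha, hb] at hle
  have hab : a + b = k := by exact_mod_cast hle
  have hb0 : b = 0 := by omega
  rw [hb, hb0]
  simp

end Cfsg.Agent.Lib.Helper36.StUniq
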