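/-
helper36: S2318-[A-ORTH] (helper82's StUniq project): exact sheet statement `sum_conj_eq_zero`.
-/
import Mathlib
import Cfsg.Agent.Lib.Helper82.StUniq.Defs
import Cfsg.Agent.Lib.Helper36.StUniq.OrthCore
import Cfsg.Agent.Lib.Helper36.StUniq.Nlpos

set_option autoImplicit false
namespace Cfsg.Agent.Lib.Helper36.StUniq
open Cfsg
open scoped ComplexConjugate
open Cfsg.Agent.Lib.Helper79.BrauerN (linFun)
universe u
variable {G : Type u} [Group G]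

-- [A-ORTH]
theorem sum_conj_eq_zero [Fintype G] (P U : Subgroup G) (Λ Λ₂ : ↥P → ℂ) (hΛ : IsCharacter ↥P Λ)
    (hΛ₂ : IsCharacter ↥P Λ₂) (χ : G → ℂ) (hχ : IsIrrCharacter G χ)
    (h1 : classInner χ (indFun P Λ) = 1)
    (ψ : ↥U →* ℂˣ) (h2 : classInner χ (indFun U (linFun ψ)) = 1)
    (k : ℕ) (hk : k ≤ 1)
    (hle : classInner (indFun P (Λ + Λ₂)) (indFun U (linFun ψ)) = (k : ℂ)) (m : G) :
    ∑ y : G, extendByZero P Λ₂ y * conj (extendByZero U (linFun ψ) (m * y * m⁻¹)) = 0 :=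
  sum_eq_zero_of_classInner_indFun_eq_zero P U Λ₂ hΛ₂ ψ
    (classInner_indFun_eq_zero_of_le_one P U Λ Λ₂ hΛ hΛ₂ χ hχ h1 ψ h2 k hk hle) m

end Cfsg.Agent.Lib.Helper36.StUniq
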